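import Cfsg.Agent.Lib.ZTIso.Suzuki
import Cfsg.Agent.Lib.ZT.Main
import Cfsg.Agent.S0344
import Cfsg.Agent.S0738
import Cfsg.Agent.S0885
import Cfsg.Agent.Lib.Zass.Sharp
import Cfsg.Agent.Lib.Zass.Simple
import Cfsg.Agent.Lib.ZassAbelian.Main
import Cfsg.Agent.Lib.SharpThree.Coord

/-!
# Simple Zassenhaus groups up to isomorphism
-/

set_option autoImplicit false
set_option linter.style.haveILetI false

namespace CfsgLib.ZTIso

/-- A finite simple Zassenhaus group is a `PSL₂` or a Suzuki group. -/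
theorem zassenhaus_simple_iso {G Ω : Type*} [Group G] [Finite G] [MulAction G Ω]
    [Finite Ω] (hZ : Cfsg.IsZassenhausGroup G Ω) [IsSimpleGroup G] :
    (∃ (F : Type) (_ : Field F) (_ : Fintype F), Nonempty (G ≃* Matrix.ProjectiveSpecialLinearGroup (Fin 2) F)) ∨ Cfsg.Lie.IsoSuzuki G := by
  classical
  haveI := Fintype.ofFinite Ω
  have hP := CfsgLib.Zass.Pre.of hZ
  have h3 := hP.three_le_card
  obtain ⟨a⟩ : Nonempty Ω := Fintype.card_pos_iff.1 (by omega)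
  obtain ⟨b, hb⟩ := hP.exists_ne a
  have hab : a ≠ b := hb.symm
  rcases Nat.even_or_odd (Nat.card ↥(MulAction.stabilizer G a ⊓ MulAction.stabilizer G b)) with he | ho
  · obtain ⟨F, iF, iFF, -, hiso⟩ := Cfsg.Agent.S0344.result hZ hab he
    exact Or.inl ⟨F, iF, iFF, hiso⟩
  obtain ⟨K, hK⟩ := hP.exists_kernel a
  have hcard := hK.card hP
  have hreg : ∀ y z : Ω, y ≠ a → z ≠ a → ∃! u : K, (u : G) • y = z := fun y z hy hz => by
    obtain ⟨k, hk, hky⟩ := hK.regular y z hy hz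
    exact ⟨⟨k, hk⟩, hky, fun k' hk' => Subtype.ext (hK.inj hy k'.2 hk (hk'.trans hky.symm))⟩
  rcases Cfsg.Agent.S0885.result hZ hab (Fintype.card Ω - 1) _ (by omega) rfl ho K
    (fun k hk => hK.le k hk) hcard hK.fix with h1 | ⟨h2, ⟨u, v, huv⟩, -⟩
  swap
  · have hS := CfsgLib.ZT.Setting.of_simple hZ hab (fun k hk => hK.le k hk) h2
      ⟨u, u.2, v, v.2, fun e => huv (Subtype.ext e)⟩ hreg
    obtain ⟨F, iF, iFF, m, hm, he⟩ := hS.exists_mulEquiv_sz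
    exact Or.inr ⟨F, iF, iFF, m, hm.one_le, hm.card, he⟩
  obtain ⟨hKc, p, f, hp, -, hΩ⟩ := Cfsg.Agent.S0738.result hZ hab (by omega) K
    (fun k hk => hK.le k hk) ⟨fun x hx g => hK.conj_mem (g : G) g.2 (x : G) hx⟩ hreg
  rcases CfsgLib.ZassAbelian.classification hZ hK
      (fun x hx y hy => congrArg Subtype.val (hKc.is_comm.comm (⟨x, hx⟩ : K) ⟨y, hy⟩)) with
    ⟨ht, hs⟩ | ⟨F, iF, iFF, -, hiso⟩
  swap
  · exact Or.inl ⟨F, iF, iFF, hiso⟩
  have hS3 : CfsgLib.SharpThree.IsS3 G Ω := ⟨ht, hs⟩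
  rcases hp.eq_two_or_odd' with hp2 | hp2
  swap
  · refine (hP.not_sharp (hΩ ▸ (hp2.pow).add_one) fun x y hxy => ?_).elim
    have := hS3.card_pair_stabilizer hxy h3
    omega
  obtain ⟨c, hca, hcb⟩ := CfsgLib.SharpThree.exists_third h3 a b
  obtain ⟨s, hsa, hsb, hsc⟩ := hS3.exists_three hab hca.symm hcb.symm hab.symm hcb.symm hca.symm
  obtain ⟨hcyc, -⟩ := CfsgLib.Zass.Pre.two_point_cyclic hZ hab
  obtain ⟨F, iF, iFF, hF, ⟨e⟩⟩ := hS3.exists_mulEquiv_pgl hab hca.symm hcb.symm hsa hsb hsc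
    (fun m m' ha hb ha' hb' => by
      obtain ⟨g, hg⟩ := hcyc.exists_generator
      obtain ⟨i, hi⟩ := Subgroup.mem_zpowers_iff.1 (hg ⟨m, ha, hb⟩)
      obtain ⟨j, hj⟩ := Subgroup.mem_zpowers_iff.1 (hg ⟨m', ha', hb'⟩)
      exact congrArg Subtype.val
        (hi ▸ hj ▸ zpow_mul_comm g i j : (⟨m, ha, hb⟩ : ↥(MulAction.stabilizer G a ⊓ MulAction.stabilizer G b)) *
          ⟨m', ha', hb'⟩ = ⟨m', ha', hb'⟩ * ⟨m, ha, hb⟩))
  refine Or.inl ⟨F, iF, iFF, ⟨e.trans (MulEquiv.ofBijective Matrix.ProjectiveSpecialLinearGroup.toPGL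
    ⟨Matrix.ProjectiveSpecialLinearGroup.toPGL_injective,
      Matrix.ProjectiveSpecialLinearGroup.toPGL_surj_of_roots fun r => ?_⟩).symm⟩⟩
  have hf : 0 < f := Nat.pos_of_ne_zero fun h => by
    rw [h, pow_zero] at hΩ
    omega
  refine ⟨r ^ 2 ^ (f - 1), Units.ext ?_⟩
  rw [Fintype.card_fin, Units.val_pow_eq_pow_val, Units.val_pow_eq_pow_val, ← pow_mul, ← pow_succ,
    Nat.sub_add_cancel hf, show 2 ^ f = Fintype.card F by rw [hp2] at hΩ; omega]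
  exact FiniteField.pow_card _

end CfsgLib.ZTIso
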