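import Cfsg.Agent.Lib.ZTUnique.SzModel

/-!
Zassenhaus groups with nonabelian 2-kernels are Suzuki groups: the form with explicit parameters.
The proof is in `Lib/ZTUnique`.
-/

set_option autoImplicit false

namespace CfsgLib.ZT

/-- A Zassenhaus group with nonabelian 2-kernels is a Suzuki group. -/
theorem Setting.exists_mulEquiv_sz {G : Type*} [Group G] {Ω : Type*} [MulAction G Ω] [Fintype Ω]
    {a b : Ω} {U : Subgroup G} (hS : Setting G a b U) :
    ∃ (F : Type) (_ : Field F) (_ : Fintype F) (m : ℕ), CfsgLib.Suzuki.SzHyp F m ∧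
      Nonempty (G ≃* ↥(Cfsg.Lie.Sz F (2 ^ (m + 1)))) := by
  obtain ⟨F, i₁, i₂, m, hm, hF, e⟩ := CfsgLib.ZTUnique.isoSuzuki hS
  exact ⟨F, i₁, i₂, m, ⟨hm, hF⟩, e⟩

end CfsgLib.ZT
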